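import Groth.Agent.L19.CotClass.Main
import Groth.Agent.S8679
import Groth.Agent.S8652
import Groth.Agent.S9372
import Groth.Agent.S8661

/-!
# The virtual relative dimension is additive
-/

set_option autoImplicit false
set_option linter.style.haveILetI false
set_option linter.unusedSectionVars false
set_option backward.isDefEq.respectTransparency.types false
set_option backward.isDefEq.respectTransparency false

universe u

open CategoryTheory CategoryTheory.Limits AlgebraicGeometry TopologicalSpace Opposite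

noncomputable section

namespace Groth.L19.CotClass

variable {X Y Z V W T : Scheme.{u}}

/-- Differentials commute with base change. -/
theorem nonempty_iso_baseChange {X X' S S' : Scheme.{u}} {f : X ⟶ S} {g : S' ⟶ S} {g' : X' ⟶ X} {f' : X' ⟶ S'}
    (hsq : IsPullback g' f' f g) {Ω : X.Modules} {d : OmegaSh.Der f Ω} (hd : OmegaSh.IsUniversal d)
    {Ω' : X'.Modules} {d' : OmegaSh.Der f' Ω'} (hd' : OmegaSh.IsUniversal d') :
    Nonempty ((Scheme.Modules.pullback g').obj Ω ≅ Ω') := by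
  obtain ⟨c, hc, -⟩ := Groth.L19.OmegaSh.existsUnique_diffCompat g' g hsq.w.symm hd d'
  haveI := Groth.Agent.S9386.result f g g' f' hsq Ω d hd Ω' d' hd' c hc
  exact ⟨asIso c⟩

/-- The conormal sequence of two Koszul-regular closed immersions, as a relation on ranks. -/
theorem rk_comp_closed {P Q : Scheme.{u}} (i : Q ⟶ P) [IsClosedImmersion i] (j : X ⟶ Q) [IsClosedImmersion j]
    (hi : RegImm.IsRegularImmersion .koszul i) (hj : RegImm.IsRegularImmersion .koszul j)
    (k : X ⟶ P) (hk : j ≫ i = k) {x : X} {p q r : ℕ}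
    (hp : HasRk ((Scheme.Modules.pullback j).obj (Omega.conormal i)) x p)
    (hq : HasRk (Omega.conormal j) x q) (hr : HasRk (Omega.conormal k) x r) : r = p + q := by
  subst hk
  obtain ⟨φ₁, hφ₁, -⟩ := Groth.Agent.S9371.result (j ≫ i) i (𝟙 P) j (Category.comp_id _).symm
  obtain ⟨φ₂, hφ₂, -⟩ := Groth.Agent.S9371.result j (j ≫ i) i (𝟙 X) (Category.id_comp _)
  obtain ⟨w, hse⟩ := Groth.Agent.S8679.result i j hi hj φ₁ hφ₁ φ₂ hφ₂
  exact hasRk_middle hse (Groth.L20.DescLocus.isFinLocFree_pullback j (isFinLocFree_conormal hi))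
    (isFinLocFree_conormal hj) hp hr hq

set_option maxHeartbeats 1000000 in
theorem virtualRelDim_comp (f : X ⟶ Y) (g : Y ⟶ Z) (hf : ∀ x : X, Synt.IsKoszulAt f x)
    (hg : ∀ y : Y, Synt.IsKoszulAt g y) (gf : V ⟶ Y) [Smooth gf] (jf : X ⟶ V) [IsClosedImmersion jf]
    (hjf : jf ≫ gf = f) (gg : W ⟶ Z) [Smooth gg] (jg : Y ⟶ W) [IsClosedImmersion jg] (hjg : jg ≫ gg = g)
    (gh : T ⟶ Z) [Smooth gh] (jh : X ⟶ T) [IsClosedImmersion jh] (hjh : jh ≫ gh = f ≫ g)
    {Ωf : V.Modules} {df : OmegaSh.Der gf Ωf} (hdf : OmegaSh.IsUniversal df)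
    {Ωg : W.Modules} {dg : OmegaSh.Der gg Ωg} (hdg : OmegaSh.IsUniversal dg)
    {Ωh : T.Modules} {dh : OmegaSh.Der gh Ωh} (hdh : OmegaSh.IsUniversal dh)
    (x : X) {af bf ag bg ah bh : ℕ}
    (haf : HasRk ((Scheme.Modules.pullback jf).obj Ωf) x af) (hbf : HasRk (Omega.conormal jf) x bf)
    (hah : HasRk ((Scheme.Modules.pullback jh).obj Ωh) x ah) (hbh : HasRk (Omega.conormal jh) x bh)
    (hag : HasRk ((Scheme.Modules.pullback jg).obj Ωg) (f x) ag) (hbg : HasRk (Omega.conormal jg) (f x) bg) :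
    (ah : ℤ) - bh = ((af : ℤ) - bf) + ((ag : ℤ) - bg) := by
  have hfg := Groth.Agent.S8661.result f g hf hg
  have hcomp : jh ≫ gh = (f ≫ jg) ≫ gg := by rw [hjh, Category.assoc, hjg]
  obtain ⟨T₀, j₀, hj₀, k, hk₀, hkT, hkW⟩ := exists_lift gh gg jh (f ≫ jg) hcomp
  let q₀ : T₀ ⟶ W := j₀ ≫ pullback.snd gh gg
  haveI : Smooth (pullback.snd gh gg) := MorphismProperty.pullback_snd _ _ ‹Smooth gh›
  haveI : Smooth q₀ := inferInstanceAs (Smooth (j₀ ≫ pullback.snd gh gg))
  let Q := pullback q₀ jg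
  let k' : X ⟶ Q := pullback.lift k f (by rw [← hkW])
  have hk'₁ : k' ≫ pullback.fst q₀ jg = k := pullback.lift_fst _ _ _
  have hk'₂ : k' ≫ pullback.snd q₀ jg = f := pullback.lift_snd _ _ _
  haveI : IsClosedImmersion (k' ≫ pullback.fst q₀ jg) := by rw [hk'₁]; infer_instance
  haveI : IsClosedImmersion k' := IsClosedImmersion.of_comp k' (pullback.fst q₀ jg)
  -- (A): the sequence of `k` over `jh`
  obtain ⟨hFk, -, hA⟩ := seq_facts gh gg (pullback.fst gh gg) (pullback.snd gh gg)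
    (IsPullback.of_hasPullback gh gg) j₀ k jh (f ≫ jg) hkT hkW (by rw [hjh]; exact hfg) hdg
  obtain ⟨r, hr⟩ := exists_hasRk hFk x
  have hag' : HasRk ((Scheme.Modules.pullback (f ≫ jg)).obj Ωg) x ag :=
    (hag.pullback f).of_iso ((Scheme.Modules.pullbackComp f jg).app Ωg)
  have eA : r = bh + ag := hA x bh ag r hbh hag' hr
  -- (B): two factorisations of `f`
  obtain ⟨Ω₀, d₀, hd₀⟩ := exists_isUniversal q₀
  obtain ⟨ΩW, dW, hdW⟩ := exists_isUniversal (pullback.snd gh gg)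
  obtain ⟨e₀, -⟩ := Groth.L19.OmegaSh.exists_iso_of_isUniversal (Groth.L19.OmegaSh.isUniversal_resDer j₀ hdW) hd₀
  obtain ⟨e₁⟩ := nonempty_iso_baseChange (IsPullback.of_hasPullback gh gg) hdh hdW
  obtain ⟨ΩQ, dQ, hdQ⟩ := exists_isUniversal (pullback.snd q₀ jg)
  obtain ⟨e₂⟩ := nonempty_iso_baseChange (IsPullback.of_hasPullback q₀ jg) hd₀ hdQ
  have hah' : HasRk ((Scheme.Modules.pullback k').obj ΩQ) x ah := by
    let e₃ : (Scheme.Modules.pullback j₀).obj ((Scheme.Modules.pullback (pullback.fst gh gg)).obj Ωh) ≅ Ω₀ :=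
      (Scheme.Modules.pullback j₀).mapIso e₁ ≪≫ ((Scheme.Modules.restrictFunctorIsoPullback j₀).app ΩW).symm ≪≫ e₀
    refine (hah.of_iso ?_)
    exact ((Scheme.Modules.pullbackCongr hkT).app Ωh).symm ≪≫
      ((Scheme.Modules.pullbackComp k (j₀ ≫ pullback.fst gh gg)).app Ωh).symm ≪≫
      (Scheme.Modules.pullback k).mapIso (((Scheme.Modules.pullbackComp j₀ (pullback.fst gh gg)).app Ωh).symm ≪≫ e₃) ≪≫
      ((Scheme.Modules.pullbackCongr hk'₁).app Ω₀).symm ≪≫
      ((Scheme.Modules.pullbackComp k' (pullback.fst q₀ jg)).app Ω₀).symm ≪≫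
      (Scheme.Modules.pullback k').mapIso e₂
  haveI : Smooth (pullback.snd q₀ jg) := MorphismProperty.pullback_snd _ _ ‹Smooth q₀›
  obtain ⟨hCk', -⟩ := isFinLocFree_of_factorisation hf (pullback.snd q₀ jg) k' hk'₂ hdQ
  obtain ⟨b', hb'⟩ := exists_hasRk hCk' x
  have eB : bf + ah = b' + af :=
    (indep hf gf jf hjf (pullback.snd q₀ jg) k' hk'₂ hdf hdQ).2 x af bf ah b' haf hbf hah' hb'
  -- (C): the sequence of `k'` and the base change of `jg`
  have hsq : IsPullback (pullback.snd q₀ jg) (pullback.fst q₀ jg) jg q₀ := (IsPullback.of_hasPullback q₀ jg).flip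
  have hjgK : RegImm.IsRegularImmersion .koszul jg := Groth.Agent.S8656.result g hg gg jg hjg
  have hK₁ : RegImm.IsRegularImmersion .koszul (pullback.fst q₀ jg) :=
    Groth.Agent.S8652.result jg q₀ (pullback.fst q₀ jg) (pullback.snd q₀ jg) hsq hjgK
  have hK₂ : RegImm.IsRegularImmersion .koszul k' := Groth.Agent.S8656.result f hf (pullback.snd q₀ jg) k' hk'₂
  obtain ⟨φ, hφ, -⟩ := Groth.Agent.S9371.result (pullback.fst q₀ jg) jg q₀ (pullback.snd q₀ jg)
    pullback.condition.symm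
  haveI : IsIso φ := (Groth.Agent.S9372.result (pullback.fst q₀ jg) jg q₀ (pullback.snd q₀ jg)
    (IsPullback.of_hasPullback q₀ jg) φ hφ).2 inferInstance
  have hbg' : HasRk ((Scheme.Modules.pullback k').obj (Omega.conormal (pullback.fst q₀ jg))) x bg :=
    (hbg.pullback f).of_iso (((Scheme.Modules.pullbackCongr hk'₂).app _).symm ≪≫
      ((Scheme.Modules.pullbackComp k' (pullback.snd q₀ jg)).app _).symm ≪≫
      (Scheme.Modules.pullback k').mapIso (asIso φ))
  have eC : r = bg + b' := rk_comp_closed (pullback.fst q₀ jg) k' hK₁ hK₂ k hk'₁ hbg' hb' hr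
  omega

end Groth.L19.CotClass
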