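import Groth.Agent.L12.ExtSh.Extension
import Groth.Agent.L19.ProjBdl.Basis
import Groth.Agent.L17.PullBasis
import Mathlib.LinearAlgebra.InvariantBasisNumber

/-!
# The rank of a module at a point
-/

set_option autoImplicit false
set_option linter.style.haveILetI false
set_option linter.unusedSectionVars false
set_option backward.isDefEq.respectTransparency.types false
set_option backward.isDefEq.respectTransparency false

universe u

open CategoryTheory CategoryTheory.Limits AlgebraicGeometry TopologicalSpace Opposite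

noncomputable section

namespace Groth.L19.CotClass

open Groth.L19.ProjBdl (IsBasisOn)
open Groth.L00.StalkTensor Groth.L00.PullStalk Groth.L00.Tensor

variable {X : Scheme.{u}} {E E' : X.Modules} {x : X} {n m : ℕ}

/-- There is a basis of `n` sections near `x`. -/
def HasRk (E : X.Modules) (x : X) (n : ℕ) : Prop :=
  ∃ (W : X.Opens) (b : Fin n → Γ(E, W)), x ∈ W ∧ IsBasisOn E W b

theorem exists_hasRk (hE : FlatMod.IsFinLocFree E) (x : X) : ∃ n, HasRk E x n := by
  obtain ⟨V, n, b, -, hx, -, hb⟩ := Groth.L19.ProjBdl.exists_basisOn hE x ⊤ trivial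
  exact ⟨n, V, b, hx, hb⟩

theorem HasRk.unique (h : HasRk E x n) (h' : HasRk E x m) : n = m := by
  obtain ⟨W, b, hx, hb⟩ := h
  obtain ⟨W', b', hx', hb'⟩ := h'
  let W'' := W ⊓ W'
  have hx'' : x ∈ W'' := ⟨hx, hx'⟩
  have key : ∀ {k : ℕ} (c : Fin k → Γ(E, W'')), IsBasisOn E W'' c →
      Nonempty ((Fin k → X.presheaf.stalk x) ≃ₗ[X.presheaf.stalk x] E.presheaf.stalk x) := fun {k} c hc =>
    ⟨LinearEquiv.ofBijective (Fintype.linearCombination (X.presheaf.stalk x) fun j => germ (pre E) x hx'' (c j))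
      (by
        have h := Groth.L17.PullBasis.bijective_stalk E c hc.locBases x hx''
        exact h)⟩
  obtain ⟨e⟩ := key _ (hb.mono (W' := W'') inf_le_left)
  obtain ⟨e'⟩ := key _ (hb'.mono (W' := W'') inf_le_right)
  exact eq_of_fin_equiv (X.presheaf.stalk x) (e.trans e'.symm)

theorem HasRk.of_iso (h : HasRk E x n) (e : E ≅ E') : HasRk E' x n := by
  obtain ⟨W, b, hx, hb⟩ := h
  refine ⟨W, fun i => e.hom.app W (b i), hx, fun V hV => ?_⟩
  have hh : Groth.L19.ProjBdl.lc E' (fun i => e.hom.app W (b i)) hV =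
      e.hom.app V ∘ Groth.L19.ProjBdl.lc E b hV :=
    funext fun c => (Groth.L19.ProjBdl.app_lc e.hom b hV c).symm
  rw [hh]
  exact ((ConcreteCategory.isIso_iff_bijective _).1 inferInstance).comp (hb V hV)

theorem HasRk.pullback {T : Scheme.{u}} (g : T ⟶ X) {t : T} (h : HasRk E (g t) n) :
    HasRk ((Scheme.Modules.pullback g).obj E) t n := by
  obtain ⟨W, b, hx, hb⟩ := h
  exact ⟨_, _, hx, hb.pullback g⟩

/-- Compare with a rank given on an open neighbourhood. -/
theorem HasRk.eq_of_restrict (h : HasRk E x n) {U : X.Opens} (hx : x ∈ U) {a : ℕ}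
    (ha : FlatMod.IsFinLocFreeOfRank a ((Scheme.Modules.restrictFunctor U.ι).obj E)) : n = a := by
  have h₁ : HasRk ((Scheme.Modules.restrictFunctor U.ι).obj E) (⟨x, hx⟩ : U) n :=
    (h.pullback U.ι (t := (⟨x, hx⟩ : U))).of_iso ((Scheme.Modules.restrictFunctorIsoPullback U.ι).app E).symm
  obtain ⟨V, hV, ⟨i⟩⟩ := ha ⟨x, hx⟩
  obtain ⟨s, hs⟩ := Groth.L17.FinLocBases.exists_isBasis _ i
  exact h₁.unique ⟨_, _, ((Scheme.Hom.image_top_eq_opensRange V.ι).trans V.opensRange_ι).ge hV,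
    Groth.L19.ProjBdl.isBasisOn_of_locBases hs⟩

/-- Ranks add in short exact sequences. -/
theorem hasRk_middle {S : ShortComplex X.Modules} (hS : S.ShortExact) (h₁ : FlatMod.IsFinLocFree S.X₁)
    (h₃ : FlatMod.IsFinLocFree S.X₃) {p q r : ℕ} (hp : HasRk S.X₁ x p) (hr : HasRk S.X₂ x r)
    (hq : HasRk S.X₃ x q) : r = p + q := by
  obtain ⟨U, p', q', a, σ, hxU, -, ha, hσ⟩ := Groth.L12.ExtSh.exists_split_bases hS h₁ h₃ x ⊤ trivial
  rw [hr.unique ⟨_, _, hxU, Groth.L12.ExtSh.isBasisOn_append hS ha hσ⟩, hp.unique ⟨_, _, hxU, ha⟩,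
    hq.unique ⟨_, _, hxU, hσ⟩]

end Groth.L19.CotClass
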