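import Groth.Agent.L19.CotClass.Seq
import Groth.Agent.L19.CotClass.Rank
import Groth.Agent.L29.K.Sub
import Groth.Prelude.Def_KRR

/-!
# Independence of the virtual cotangent class from the factorisation
-/

set_option autoImplicit false
set_option linter.style.haveILetI false
set_option linter.unusedSectionVars false
set_option backward.isDefEq.respectTransparency.types false
set_option backward.isDefEq.respectTransparency false

universe u

open CategoryTheory CategoryTheory.Limits AlgebraicGeometry TopologicalSpace Opposite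

noncomputable section

namespace Groth.L19.CotClass

variable {X Y V V' T : Scheme.{u}}

instance (X : Scheme.{u}) : (KRR.vbP X).IsClosedUnderIsomorphisms := ⟨fun e h => Groth.L29.LocFree.of_iso e h⟩

theorem cl_iso {E F : X.Modules} (e : E ≅ F) (hE : FlatMod.IsFinLocFree E) : KRR.cl X E = KRR.cl X F :=
  Groth.L29.KSub.clSub_iso (KRR.vbP X) e (isZero_zero _) (Groth.L29.LocFree.of_isZero (isZero_zero _)) hE

/-- Everything about one lift into the fibre product. -/
theorem seq_facts (g : V ⟶ Y) (g' : V' ⟶ Y) [Smooth g] [Smooth g'] (p : T ⟶ V) (p' : T ⟶ V')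
    (sq : IsPullback p p' g g') {T₀ : Scheme.{u}} (j : T₀ ⟶ T) [IsOpenImmersion j] (k : X ⟶ T₀) (i : X ⟶ V)
    (i' : X ⟶ V') [IsImmersion i] [IsImmersion k]
    [QuasiCompact i] [QuasiCompact k] (hk : k ≫ j ≫ p = i) (hk' : k ≫ j ≫ p' = i')
    (hf : ∀ x : X, Synt.IsKoszulAt (i ≫ g) x) {Ω' : V'.Modules}
    {d' : OmegaSh.Der g' Ω'} (hd' : OmegaSh.IsUniversal d') :
    FlatMod.IsFinLocFree (Omega.conormal k) ∧
      KRR.cl X (Omega.conormal k) = KRR.cl X (Omega.conormal i) + KRR.cl X ((Scheme.Modules.pullback i').obj Ω') ∧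
      ∀ (x : X) (p q r : ℕ), HasRk (Omega.conormal i) x p → HasRk ((Scheme.Modules.pullback i').obj Ω') x q →
        HasRk (Omega.conormal k) x r → r = p + q := by
  haveI : Smooth p := MorphismProperty.of_isPullback (P := @Smooth) sq.flip inferInstance
  have hC := isFinLocFree_conormal (Groth.Agent.S8656.result (i ≫ g) hf g i rfl)
  have hCk : FlatMod.IsFinLocFree (Omega.conormal k) := isFinLocFree_conormal
    (Groth.Agent.S8656.result (i ≫ g) hf ((j ≫ p) ≫ g) k (by rw [← Category.assoc, hk]))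
  have hΩ : FlatMod.IsFinLocFree ((Scheme.Modules.pullback i').obj Ω') :=
    Groth.L20.DescLocus.isFinLocFree_pullback i' (isFinLocFree_of_isUniversal hd')
  obtain ⟨S, hS, ⟨e₁⟩, h₂, ⟨e₃⟩⟩ := exists_seq_square g g' p p' sq j k i i' hk hk' hd'
  have h₁ : FlatMod.IsFinLocFree S.X₁ := Groth.L29.LocFree.of_iso e₁.symm hC
  have h₃ : FlatMod.IsFinLocFree S.X₃ := Groth.L29.LocFree.of_iso e₃.symm hΩ
  have h₂' : FlatMod.IsFinLocFree S.X₂ := by rw [h₂]; exact hCk
  refine ⟨hCk, ?_, fun x a b c ha hb hc => ?_⟩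
  · rw [← cl_iso e₁ h₁, ← cl_iso e₃ h₃, ← h₂]
    exact Groth.L29.KSub.clSub_shortExact (KRR.vbP X) hS h₁ h₂' h₃
  · rw [← h₂] at hc
    exact hasRk_middle hS h₁ h₃ (ha.of_iso e₁.symm) hc (hb.of_iso e₃.symm)

theorem exists_lift (g : V ⟶ Y) (g' : V' ⟶ Y) (i : X ⟶ V) [IsImmersion i] (i' : X ⟶ V')
    (h : i ≫ g = i' ≫ g') :
    ∃ (T₀ : Scheme.{u}) (j : T₀ ⟶ pullback g g') (_ : IsOpenImmersion j) (k : X ⟶ T₀) (_ : IsClosedImmersion k),
      k ≫ j ≫ pullback.fst g g' = i ∧ k ≫ j ≫ pullback.snd g g' = i' := by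
  haveI : IsImmersion (pullback.lift i i' h ≫ pullback.fst g g') := by rw [pullback.lift_fst]; infer_instance
  haveI : IsImmersion (pullback.lift i i' h) := IsImmersion.of_comp _ (pullback.fst g g')
  exact ⟨_, (pullback.lift i i' h).coborderRange.ι, inferInstance, (pullback.lift i i' h).liftCoborder, inferInstance,
    by rw [Scheme.Hom.liftCoborder_ι_assoc, pullback.lift_fst], by rw [Scheme.Hom.liftCoborder_ι_assoc, pullback.lift_snd]⟩

variable {f : X ⟶ Y}

/-- Both orders of the factors. -/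
theorem indep (hf : ∀ x : X, Synt.IsKoszulAt f x)
    (g : V ⟶ Y) [Smooth g] (i : X ⟶ V) [IsImmersion i] [QuasiCompact i] (hi : i ≫ g = f)
    (g' : V' ⟶ Y) [Smooth g'] (i' : X ⟶ V') [IsImmersion i'] [QuasiCompact i'] (hi' : i' ≫ g' = f)
    {Ω : V.Modules} {d : OmegaSh.Der g Ω} (hd : OmegaSh.IsUniversal d)
    {Ω' : V'.Modules} {d' : OmegaSh.Der g' Ω'} (hd' : OmegaSh.IsUniversal d') :
    (KRR.cl X (Omega.conormal i) + KRR.cl X ((Scheme.Modules.pullback i').obj Ω') =
      KRR.cl X (Omega.conormal i') + KRR.cl X ((Scheme.Modules.pullback i).obj Ω)) ∧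
    ∀ (x : X) (a b a' b' : ℕ), HasRk ((Scheme.Modules.pullback i).obj Ω) x a → HasRk (Omega.conormal i) x b →
      HasRk ((Scheme.Modules.pullback i').obj Ω') x a' → HasRk (Omega.conormal i') x b' → b + a' = b' + a := by
  subst hi
  obtain ⟨T₀, j, _, k, _, hk, hk'⟩ := exists_lift g g' i i' hi'.symm
  obtain ⟨hF, h₁, r₁⟩ := seq_facts g g' (pullback.fst g g') (pullback.snd g g') (IsPullback.of_hasPullback g g')
    j k i i' hk hk' hf hd'
  obtain ⟨-, h₂, r₂⟩ := seq_facts g' g (pullback.snd g g') (pullback.fst g g') (IsPullback.of_hasPullback g g').flip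
    j k i' i hk' hk (by rw [hi']; exact hf) hd
  refine ⟨h₁.symm.trans h₂, fun x a b a' b' ha hb ha' hb' => ?_⟩
  obtain ⟨c, hc⟩ := exists_hasRk hF x
  exact (r₁ x b a' c hb ha' hc).symm.trans (r₂ x b' a c hb' ha hc)

end Groth.L19.CotClass
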