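import Groth.Prelude.Def_Omega3
import Mathlib.Algebra.Category.ModuleCat.Differentials.Presheaf
import Mathlib.Algebra.Category.ModuleCat.Presheaf.Sheafification
import Mathlib.AlgebraicGeometry.Modules.Sheaf

/-!
# Every morphism has a universal derivation
-/

set_option autoImplicit false
set_option linter.style.haveILetI false
set_option linter.unusedSectionVars false
set_option backward.isDefEq.respectTransparency.types false
set_option backward.isDefEq.respectTransparency false

universe u

open CategoryTheory CategoryTheory.Limits AlgebraicGeometry TopologicalSpace Opposite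

noncomputable section

namespace Groth.L19.CotClass

variable {X Y : Scheme.{u}} (f : X ⟶ Y)

/-- The functions coming from the base. -/
def baseSub (O : (Opens X)ᵒᵖ) : Subring (X.presheaf.obj O) :=
  Subring.closure {s | ∃ (W : Y.Opens) (h : O.unop ≤ f ⁻¹ᵁ W) (a : Γ(Y, W)), f.appLE W O.unop h a = s}

theorem map_mem_baseSub {O O' : (Opens X)ᵒᵖ} (i : O ⟶ O') {s : X.presheaf.obj O} (hs : s ∈ baseSub f O) :
    X.presheaf.map i s ∈ baseSub f O' := by
  have h : baseSub f O ≤ (baseSub f O').comap (X.presheaf.map i).hom := by
    refine Subring.closure_le.2 ?_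
    rintro _ ⟨W, h, a, rfl⟩
    refine Subring.subset_closure ⟨W, i.unop.le.trans h, a, ?_⟩
    exact congr($((Scheme.Hom.appLE_map f h i).symm) a)
  exact h hs

/-- The presheaf of rings generated by the base. -/
def baseRings : (Opens X)ᵒᵖ ⥤ CommRingCat.{u} where
  obj O := CommRingCat.of (baseSub f O)
  map {O O'} i := CommRingCat.ofHom (((X.presheaf.map i).hom.comp (baseSub f O).subtype).codRestrict (baseSub f O')
    fun s => map_mem_baseSub f i s.2)
  map_id O := by
    ext s
    exact congr($(X.presheaf.map_id O) s.1)
  map_comp i j := by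
    ext s
    exact congr($(X.presheaf.map_comp i j) s.1)

/-- Its inclusion. -/
def baseIncl : baseRings f ⟶ X.presheaf where
  app O := CommRingCat.ofHom (baseSub f O).subtype
  naturality {O O'} i := rfl

variable (M : PresheafOfModules.{u} (X.presheaf ⋙ forget₂ _ RingCat))

/-- Derivations over the base give derivations over the subrings. -/
def toBase (d : M.Derivation (S := Y.presheaf) (F := Opens.map f.base) f.c) :
    M.Derivation' (baseIncl f) where
  d := d.d
  d_mul := d.d_mul
  d_map := d.d_map
  d_app {O} a := by
    obtain ⟨a, ha⟩ := a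
    show d.d a = 0
    induction ha using Subring.closure_induction with
    | mem x hx =>
      obtain ⟨W, h, b, rfl⟩ := hx
      show d.d (X.presheaf.map (homOfLE h).op (f.app W b)) = 0
      erw [d.d_map (homOfLE h).op, d.d_app b, map_zero]
    | zero => exact map_zero _
    | one => exact PresheafOfModules.Derivation.d_one d O
    | add x y _ _ hx hy => rw [map_add, hx, hy, add_zero]
    | neg x _ hx => rw [map_neg, hx, neg_zero]
    | mul x y _ _ hx hy =>
      rw [d.d_mul, hx, hy]
      exact ((congrArg₂ (· + ·) (smul_zero x) (smul_zero y)).trans (add_zero 0))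

/-- and conversely. -/
def ofBase (d : M.Derivation' (baseIncl f)) : M.Derivation (S := Y.presheaf) (F := Opens.map f.base) f.c where
  d := d.d
  d_mul := d.d_mul
  d_map := d.d_map
  d_app {W} a := PresheafOfModules.Derivation.d_app d
    (X := op ((Opens.map f.base).obj W.unop))
    (⟨f.app W.unop a, Subring.subset_closure ⟨W.unop, le_rfl, a, by rw [Scheme.Hom.app_eq_appLE]⟩⟩ :
      baseSub f (op ((Opens.map f.base).obj W.unop)))

theorem exists_isUniversal : ∃ (Ω : X.Modules) (d : OmegaSh.Der f Ω), OmegaSh.IsUniversal d := by
  let α : X.ringCatSheaf.obj ⟶ X.ringCatSheaf.obj := 𝟙 _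
  let adj := PresheafOfModules.sheafificationAdjunction α
  let M := PresheafOfModules.DifferentialsConstruction.relativeDifferentials' (baseIncl f)
  let d₀ := PresheafOfModules.DifferentialsConstruction.derivation' (baseIncl f)
  let hu := PresheafOfModules.DifferentialsConstruction.isUniversal' (baseIncl f)
  let Ω : X.Modules := (PresheafOfModules.sheafification α).obj M
  let η : M ⟶ Ω.val := adj.unit.app M
  refine ⟨Ω, ofBase f _ (d₀.postcomp η), fun F D => ?_⟩
  let u : M ⟶ F.val := hu.desc (toBase f F.val D)
  refine ⟨(adj.homEquiv M F).symm u, ?_, fun β hβ => ?_⟩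
  · have h1 : η ≫ ((adj.homEquiv M F).symm u).val = u :=
      (adj.homEquiv_unit M F _).symm.trans (Equiv.apply_symm_apply _ u)
    ext O s
    have h2 := PresheafOfModules.Derivation.congr_d (hu.fac (toBase f F.val D)) (X := O) s
    exact (congr($(congrArg (fun k => PresheafOfModules.Hom.app k O) h1) (d₀.d s))).trans h2
  · refine (Equiv.eq_symm_apply _).2 ((adj.homEquiv_unit M F β).trans ?_)
    refine hu.postcomp_injective _ _ ?_
    ext O s
    have h2 := PresheafOfModules.Derivation.congr_d (hu.fac (toBase f F.val D)) (X := O) s
    exact (PresheafOfModules.Derivation.congr_d hβ (X := O) s).trans h2.symm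

end Groth.L19.CotClass
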