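import Groth.Agent.L19.OmegaSh.Unramified
import Groth.Agent.L19.OmegaSh.GroupScheme
import Groth.Agent.L19.OmegaSh.DiffCompat
import Groth.Agent.L19.LocFreeDescent
import Groth.Agent.L19.CotClass.Univ
import Groth.Agent.L14.Conormal.FinLocFree
import Groth.Agent.L14.RegImmStalk.Kinds
import Groth.Agent.L19.Thick.H1Reg
import Groth.Agent.L29.LocFree
import Groth.Agent.L20.DescLocus.Main
import Groth.Agent.S9711
import Groth.Agent.S9371
import Groth.Agent.S9386
import Groth.Agent.S8656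

/-!
# Conormal sequences for a lift of an immersion through a smooth morphism
-/

set_option autoImplicit false
set_option linter.style.haveILetI false
set_option linter.unusedSectionVars false
set_option backward.isDefEq.respectTransparency.types false
set_option backward.isDefEq.respectTransparency false

universe u

open CategoryTheory CategoryTheory.Limits AlgebraicGeometry TopologicalSpace Opposite

noncomputable section

namespace Groth.L19.CotClass

variable {X Y V V' T : Scheme.{u}}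

/-- Differentials of smooth morphisms are finite locally free. -/
theorem isFinLocFree_of_isUniversal {g : V ⟶ Y} [Smooth g] {Ω : V.Modules} {d : OmegaSh.Der g Ω}
    (hd : OmegaSh.IsUniversal d) : FlatMod.IsFinLocFree Ω := by
  intro x
  obtain ⟨W, hW, U, hU, hxU, e, hf⟩ := Smooth.exists_isStandardSmooth g x
  letI : Algebra Γ(Y, W) Γ(V, U) := (g.appLE W U e).hom.toAlgebra
  haveI : Algebra.IsStandardSmooth Γ(Y, W) Γ(V, U) := hf
  haveI : Nontrivial Γ(V, U) := (V.presheaf.germ U x hxU).hom.domain_nontrivial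
  haveI : Module.Finite Γ(V, U) Ω[Γ(V, U)⁄Γ(Y, W)] := inferInstance
  haveI : Module.Free Γ(V, U) Ω[Γ(V, U)⁄Γ(Y, W)] := inferInstance
  obtain ⟨i, -⟩ := Groth.L19.OmegaSh.exists_chart_affine hd hU hW e
  let b := Module.finBasis Γ(V, U) Ω[Γ(V, U)⁄Γ(Y, W)]
  let j : Ω.restrict hU.fromSpec ≅ FlatMod.freeMod (Spec Γ(V, U)) _ :=
    i ≪≫ (tilde.functor Γ(V, U)).mapIso (b.reindex Equiv.ulift.symm).repr.toModuleIso ≪≫
      Groth.L19.PullChart.freeTildeIso Γ(V, U) _
  exact ⟨hU.fromSpec.opensRange, _, by rw [hU.opensRange_fromSpec]; exact hxU,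
    Groth.L19.PullChart.exists_free_of_chart _ _ j⟩

/-- The conormal sheaf of a Koszul-regular immersion is finite locally free. -/
theorem isFinLocFree_conormal {i : X ⟶ V} [QuasiCompact i] (hi : RegImm.IsRegularImmersion .koszul i) :
    FlatMod.IsFinLocFree (Omega.conormal i) :=
  Groth.L14.Conormal.isFinLocFree_conormal i fun z => by
    obtain ⟨U, hz, hcl, rs, hrs, e⟩ := hi.2 z
    refine ⟨U, rs.length, rs.get, hz, hcl,
      Groth.L14.RegImmStalk.isQuasiRegular_of_h1 (Groth.L19.Thick.isH1Regular_of_koszul hrs), ?_⟩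
    rw [e, Set.range_list_get]

/-- The sequence `0 → N_i → N_k → k^*Ω → 0` for `k ≫ p = i` with `p` smooth. -/
theorem exists_seq (p : T ⟶ V) [Smooth p] (k : X ⟶ T) (i : X ⟶ V) [IsImmersion i] [IsImmersion k]
    [QuasiCompact i] [QuasiCompact k] (hk : k ≫ p = i) {Ω : T.Modules} {d : OmegaSh.Der p Ω}
    (hd : OmegaSh.IsUniversal d) :
    ∃ S : ShortComplex X.Modules, S.ShortExact ∧ Nonempty (S.X₁ ≅ Omega.conormal i) ∧ S.X₂ = Omega.conormal k ∧
      Nonempty (S.X₃ ≅ (Scheme.Modules.pullback k).obj Ω) := by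
  obtain ⟨ψ, hψ, -⟩ := Groth.Agent.S9371.result k i p (𝟙 X) ((Category.id_comp i).trans hk.symm)
  obtain ⟨φ, hφ⟩ := Groth.L19.OmegaSh.exists_conormalDiff k d
  obtain ⟨w, hse⟩ := Groth.Agent.S9711.result p k i hk Ω d hd ψ hψ φ hφ
  exact ⟨_, hse, ⟨(Scheme.Modules.pullbackId X).app _⟩, rfl, ⟨Iso.refl _⟩⟩

/-- For a lift into an open of a fibre product with a smooth factor. -/
theorem exists_seq_square (g : V ⟶ Y) (g' : V' ⟶ Y) [Smooth g'] (p : T ⟶ V) (p' : T ⟶ V')
    (sq : IsPullback p p' g g') {T₀ : Scheme.{u}} (j : T₀ ⟶ T) [IsOpenImmersion j] (k : X ⟶ T₀) (i : X ⟶ V)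
    (i' : X ⟶ V') [IsImmersion i] [IsImmersion k]
    [QuasiCompact i] [QuasiCompact k] (hk : k ≫ j ≫ p = i) (hk' : k ≫ j ≫ p' = i') {Ω' : V'.Modules}
    {d' : OmegaSh.Der g' Ω'} (hd' : OmegaSh.IsUniversal d') :
    ∃ S : ShortComplex X.Modules, S.ShortExact ∧ Nonempty (S.X₁ ≅ Omega.conormal i) ∧ S.X₂ = Omega.conormal k ∧
      Nonempty (S.X₃ ≅ (Scheme.Modules.pullback i').obj Ω') := by
  haveI : Smooth p := MorphismProperty.of_isPullback (P := @Smooth) sq.flip inferInstance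
  obtain ⟨Ωp, dp, hd⟩ := exists_isUniversal p
  obtain ⟨b, hb, -⟩ := Groth.L19.OmegaSh.existsUnique_diffCompat p' g sq.w hd' dp
  haveI := Groth.Agent.S9386.result g' g p' p sq.flip _ _ hd' _ _ hd b hb
  obtain ⟨S, hS, h₁, h₂, ⟨e₃⟩⟩ := exists_seq (j ≫ p) k i hk (Groth.L19.OmegaSh.isUniversal_resDer j hd)
  exact ⟨S, hS, h₁, h₂, ⟨e₃ ≪≫ (Scheme.Modules.pullback k).mapIso ((Scheme.Modules.restrictFunctorIsoPullback j).app Ωp ≪≫
      (Scheme.Modules.pullback j).mapIso (asIso b).symm ≪≫ (Scheme.Modules.pullbackComp j p').app Ω') ≪≫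
    (Scheme.Modules.pullbackComp k (j ≫ p')).app Ω' ≪≫ (Scheme.Modules.pullbackCongr hk').app Ω'⟩⟩

variable {f : X ⟶ Y}

/-- The four modules of a factorisation are finite locally free. -/
theorem isFinLocFree_of_factorisation (hf : ∀ x : X, Synt.IsKoszulAt f x) (g : V ⟶ Y) [Smooth g] (i : X ⟶ V)
    [IsImmersion i] [QuasiCompact i] (hi : i ≫ g = f) {Ω : V.Modules} {d : OmegaSh.Der g Ω}
    (hd : OmegaSh.IsUniversal d) :
    FlatMod.IsFinLocFree (Omega.conormal i) ∧ FlatMod.IsFinLocFree ((Scheme.Modules.pullback i).obj Ω) :=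
  ⟨isFinLocFree_conormal (Groth.Agent.S8656.result f hf g i hi),
    Groth.L20.DescLocus.isFinLocFree_pullback i (isFinLocFree_of_isUniversal hd)⟩

end Groth.L19.CotClass
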