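import Mathlib.Algebra.Homology.Double
import Mathlib.Algebra.Homology.HomologySequence
import Mathlib.Algebra.Homology.HomologicalComplexAbelian
import Mathlib.Algebra.Homology.QuasiIso
import Mathlib.Algebra.Homology.DerivedCategory.Basic
import Mathlib.CategoryTheory.Preadditive.Biproducts

/-!
# A quasi-isomorphism of two-term complexes
-/

set_option autoImplicit false
set_option backward.isDefEq.respectTransparency.types false
set_option backward.isDefEq.respectTransparency false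
set_option linter.style.haveILetI false

universe w v u

open CategoryTheory CategoryTheory.Limits HomologicalComplex

noncomputable section

namespace Groth.L19.CotClass

variable {C : Type u} [Category.{v} C] [Abelian C]

theorem rel01 : (ComplexShape.up ℤ).Rel (-1 : ℤ) 0 := neg_add_cancel (1 : ℤ)

/-- The two-term complex in degrees `-1` and `0`. -/
abbrev two {A B : C} (d : A ⟶ B) : CochainComplex C ℤ := HomologicalComplex.double d rel01

theorem ne01 : (-1 : ℤ) ≠ 0 := by decide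

/-- A morphism of two-term complexes. -/
def twoMap {A B A' B' : C} {d : A ⟶ B} {d' : A' ⟶ B'} (a : A ⟶ A') (b : B ⟶ B') (w : a ≫ d' = d ≫ b) :
    two d ⟶ two d' :=
  mkHomFromDouble rel01 ne01 (a ≫ (doubleXIso₀ d' rel01).inv) (b ≫ (doubleXIso₁ d' rel01 ne01).inv)
    (by rw [double_d _ _ ne01, Category.assoc, Iso.inv_hom_id_assoc, reassoc_of% w])
    (fun k _ => by rw [double_d_eq_zero₀ _ _ _ _ ne01.symm, comp_zero])

theorem twoMap_f₀ {A B A' B' : C} {d : A ⟶ B} {d' : A' ⟶ B'} (a : A ⟶ A') (b : B ⟶ B') (w : a ≫ d' = d ≫ b) :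
    (twoMap a b w).f (-1) = (doubleXIso₀ d rel01).hom ≫ a ≫ (doubleXIso₀ d' rel01).inv :=
  mkHomFromDouble_f₀ _ _ _ _ _ _

theorem twoMap_f₁ {A B A' B' : C} {d : A ⟶ B} {d' : A' ⟶ B'} (a : A ⟶ A') (b : B ⟶ B') (w : a ≫ d' = d ≫ b) :
    (twoMap a b w).f 0 = (doubleXIso₁ d rel01 ne01).hom ≫ b ≫ (doubleXIso₁ d' rel01 ne01).inv :=
  mkHomFromDouble_f₁ _ _ _ _ _ _

theorem isZero_homology_two_id (M : C) (n : ℤ) : IsZero ((two (𝟙 M)).homology n) := by
  rw [← exactAt_iff_isZero_homology]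
  by_cases h0 : n = 0
  · subst h0
    rw [exactAt_iff' _ (-1) 0 1 (by simp) (by simp)]
    refine (ShortComplex.exact_iff_epi _ (double_d_eq_zero₀ (𝟙 M) rel01 0 1 ne01.symm)).2 ?_
    show Epi ((two (𝟙 M)).d (-1) 0)
    rw [double_d _ _ ne01]
    infer_instance
  · by_cases h1 : n = -1
    · subst h1
      rw [exactAt_iff' _ (-2) (-1) 0 (by simp) (by simp)]
      refine (ShortComplex.exact_iff_mono _ (double_d_eq_zero₁ (𝟙 M) rel01 (-2) (-1) (by decide))).2 ?_
      show Mono ((two (𝟙 M)).d (-1) 0)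
      rw [double_d _ _ ne01]
      infer_instance
    · exact ShortComplex.exact_of_isZero_X₂ _ (isZero_double_X (𝟙 M) rel01 n h1 h0)

variable {N₁ Nk M M' : C} (ψ : N₁ ⟶ Nk) (a : Nk ⟶ M) (B : Nk ⟶ M')

/-- The inclusion of two-term complexes. -/
def incl (w : ψ ≫ B = 0) : two (ψ ≫ a) ⟶ two (biprod.lift a B) :=
  twoMap ψ biprod.inl (by
    apply biprod.hom_ext
    · simp
    · simp [w])

theorem quasiIso_incl (w : ψ ≫ B = 0) (h : (ShortComplex.mk ψ B w).ShortExact) : QuasiIso (incl ψ a B w) := by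
  let π : two (biprod.lift a B) ⟶ two (𝟙 M') := twoMap B biprod.snd (by simp)
  have hz : incl ψ a B w ≫ π = 0 := by
    apply from_double_hom_ext
    · simp [π, incl, twoMap_f₀, reassoc_of% w]
    · simp [π, incl, twoMap_f₁]
  let S : ShortComplex (CochainComplex C ℤ) := ShortComplex.mk (incl ψ a B w) π hz
  have hS : S.ShortExact := by
    refine shortExact_of_degreewise_shortExact S fun n => ?_
    by_cases h0 : n = 0
    · subst h0
      refine ShortComplex.shortExact_of_iso (ShortComplex.isoMk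
        (S₁ := ShortComplex.mk (biprod.inl : M ⟶ M ⊞ M') biprod.snd (by simp))
        (doubleXIso₁ (ψ ≫ a) rel01 ne01).symm (doubleXIso₁ (biprod.lift a B) rel01 ne01).symm (doubleXIso₁ (𝟙 M') rel01 ne01).symm ?_ ?_) ?_
      · show (doubleXIso₁ _ rel01 ne01).inv ≫ (incl ψ a B w).f 0 = _
        simp [incl, twoMap_f₁]
      · show (doubleXIso₁ _ rel01 ne01).inv ≫ π.f 0 = _
        simp [π, twoMap_f₁]
      · exact (ShortComplex.Splitting.ofHasBinaryBiproduct M M').shortExact
    · by_cases h1 : n = -1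
      · subst h1
        refine ShortComplex.shortExact_of_iso (ShortComplex.isoMk
          (S₁ := ShortComplex.mk ψ B w)
          (doubleXIso₀ (ψ ≫ a) rel01).symm (doubleXIso₀ (biprod.lift a B) rel01).symm (doubleXIso₀ (𝟙 M') rel01).symm ?_ ?_) h
        · show (doubleXIso₀ _ rel01).inv ≫ (incl ψ a B w).f (-1) = _
          simp [incl, twoMap_f₀]
        · show (doubleXIso₀ _ rel01).inv ≫ π.f (-1) = _
          simp [π, twoMap_f₀]
      · have hz₁ := isZero_double_X (ψ ≫ a) rel01 n h1 h0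
        have hz₂ := isZero_double_X (biprod.lift a B) rel01 n h1 h0
        have hz₃ := isZero_double_X (𝟙 M') rel01 n h1 h0
        exact { exact := ShortComplex.exact_of_isZero_X₂ _ hz₂, mono_f := hz₁.mono _, epi_g := hz₃.epi _ }
  rw [quasiIso_iff]
  intro n
  rw [quasiIsoAt_iff_isIso_homologyMap]
  haveI : Epi (homologyMap S.f n) :=
    (ShortComplex.exact_iff_epi _ ((isZero_homology_two_id M' n).eq_of_tgt _ _)).1 (hS.homology_exact₂ n)
  haveI : Mono (homologyMap S.f n) :=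
    (ShortComplex.exact_iff_mono _ ((isZero_homology_two_id M' (n - 1)).eq_of_src _ _)).1
      (hS.homology_exact₁ (n - 1) n (sub_add_cancel n 1))
  exact isIso_of_mono_of_epi (homologyMap S.f n)

theorem lift_comp_braiding {P : C} (a : P ⟶ M) (B : P ⟶ M') :
    biprod.lift a B ≫ (biprod.braiding M M').hom = biprod.lift B a := by
  apply biprod.hom_ext <;> simp

theorem nonempty_Q_iso [HasDerivedCategory.{w} C] {N₂ : C} (ψ₂ : N₂ ⟶ Nk) {φ₁ : N₁ ⟶ M} {φ₂ : N₂ ⟶ M'}
    (w₁ : ψ ≫ B = 0) (h₁ : (ShortComplex.mk ψ B w₁).ShortExact) (w₂ : ψ₂ ≫ a = 0)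
    (h₂ : (ShortComplex.mk ψ₂ a w₂).ShortExact) (e₁ : ψ ≫ a = φ₁) (e₂ : ψ₂ ≫ B = φ₂) :
    Nonempty (DerivedCategory.Q.obj (two φ₁) ≅ DerivedCategory.Q.obj (two φ₂)) := by
  subst e₁ e₂
  haveI := quasiIso_incl ψ a B w₁ h₁
  haveI := quasiIso_incl ψ₂ B a w₂ h₂
  have e : 𝟙 Nk ≫ biprod.lift B a = biprod.lift a B ≫ (biprod.braiding M M').hom := by
    rw [lift_comp_braiding, Category.id_comp]
  have e' : 𝟙 Nk ≫ biprod.lift a B = biprod.lift B a ≫ (biprod.braiding M' M).hom := by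
    rw [lift_comp_braiding, Category.id_comp]
  let t := twoMap (d := biprod.lift a B) (d' := biprod.lift B a) (𝟙 Nk) (biprod.braiding M M').hom e
  let t' := twoMap (d := biprod.lift B a) (d' := biprod.lift a B) (𝟙 Nk) (biprod.braiding M' M).hom e'
  have h₁₂ : t ≫ t' = 𝟙 _ := by
    apply from_double_hom_ext
    · simp [t, t', twoMap_f₀]
    · simp [t, t', twoMap_f₁]
  have h₂₁ : t' ≫ t = 𝟙 _ := by
    apply from_double_hom_ext
    · simp [t, t', twoMap_f₀]
    · simp [t, t', twoMap_f₁]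
  exact ⟨asIso (DerivedCategory.Q.map (incl ψ a B w₁)) ≪≫
    DerivedCategory.Q.mapIso (⟨t, t', h₁₂, h₂₁⟩ : two _ ≅ two _) ≪≫
    (asIso (DerivedCategory.Q.map (incl ψ₂ B a w₂))).symm⟩

end Groth.L19.CotClass
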