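import Groth.Agent.L19.CotClass.Univ
import Groth.Agent.L19.CotClass.TwoTerm
import Groth.Agent.L19.OmegaSh.DiffCompat
import Groth.Agent.L19.OmegaSh.ConormalMaps
import Groth.Agent.L19.OmegaSh.GroupScheme
import Groth.Agent.L17.BC.PullSec
import Groth.Agent.S9711
import Groth.Agent.S9371
import Groth.Agent.S9386
import Groth.Agent.S9776

/-!
# The conormal sequences of a common refinement of two factorisations
-/

set_option autoImplicit false
set_option linter.style.haveILetI false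
set_option linter.unusedSectionVars false
set_option backward.isDefEq.respectTransparency.types false
set_option backward.isDefEq.respectTransparency false

universe u

open CategoryTheory CategoryTheory.Limits AlgebraicGeometry TopologicalSpace Opposite

noncomputable section

namespace Groth.L19.CotClass

open Groth.L18.Frame (rs rs_self pull)
open Groth.L17.BC.PullSec (map_pull comp_pull)

variable {X Y V V' T S : Scheme.{u}}

theorem comp_inv_pull (k : X ⟶ T) (h : T ⟶ V) (M : V.Modules) (U : V.Opens) (s : Γ(M, U)) :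
    ((Scheme.Modules.pullbackComp k h).inv.app M).app (k ⁻¹ᵁ (h ⁻¹ᵁ U)) (pull (k ≫ h) M U s) =
      pull k _ (h ⁻¹ᵁ U) (pull h M U s) := by
  rw [← comp_pull k h M U s]
  exact congr($(congrArg (fun β => Scheme.Modules.Hom.app β (k ⁻¹ᵁ (h ⁻¹ᵁ U)))
    ((Scheme.Modules.pullbackComp k h).hom_inv_id_app M)) _)

theorem isDiffCompat_comp {X' X'' S' S'' : Scheme.{u}} {f : T ⟶ S} {f' : X' ⟶ S'} {f'' : X'' ⟶ S''}
    {h : X' ⟶ T} {h' : X'' ⟶ X'} {Ω : T.Modules} {d : OmegaSh.Der f Ω} {Ω' : X'.Modules}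
    {d' : OmegaSh.Der f' Ω'} {Ω'' : X''.Modules} {d'' : OmegaSh.Der f'' Ω''}
    {c : (Scheme.Modules.pullback h).obj Ω ⟶ Ω'} (hc : OmegaSh.IsDiffCompat h d d' c)
    {c' : (Scheme.Modules.pullback h').obj Ω' ⟶ Ω''} (hc' : OmegaSh.IsDiffCompat h' d' d'' c') :
    OmegaSh.IsDiffCompat (h' ≫ h) d d''
      ((Scheme.Modules.pullbackComp h' h).inv.app Ω ≫ (Scheme.Modules.pullback h').map c ≫ c') := fun U s => by
  show c'.app (h' ⁻¹ᵁ (h ⁻¹ᵁ U)) (((Scheme.Modules.pullback h').map c).app (h' ⁻¹ᵁ (h ⁻¹ᵁ U))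
    (((Scheme.Modules.pullbackComp h' h).inv.app Ω).app (h' ⁻¹ᵁ (h ⁻¹ᵁ U)) (pull (h' ≫ h) Ω U (d.app U s)))) = _
  rw [comp_inv_pull, map_pull]
  refine Eq.trans (congrArg (fun z => c'.app (h' ⁻¹ᵁ (h ⁻¹ᵁ U)) (pull h' Ω' (h ⁻¹ᵁ U) z)) (hc U s)) ?_
  exact hc' (h ⁻¹ᵁ U) (h.app U s)

/-- The map induced on conormal sheaves commutes with the differentials. -/
theorem conormalDiff_natural {g : V ⟶ Y} {q : T ⟶ S} (h : T ⟶ V) (k : X ⟶ T) [QuasiCompact k]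
    {Ω : V.Modules} {d : OmegaSh.Der g Ω} {Ω₀ : T.Modules} {d₀ : OmegaSh.Der q Ω₀}
    {c : (Scheme.Modules.pullback h).obj Ω ⟶ Ω₀} (hc : OmegaSh.IsDiffCompat h d d₀ c)
    {ψ : (Scheme.Modules.pullback (𝟙 X)).obj (Omega.conormal (k ≫ h)) ⟶ Omega.conormal k}
    (hψ : OmegaSh.IsConormalMap k (k ≫ h) h (𝟙 X) ψ)
    {φ : Omega.conormal (k ≫ h) ⟶ (Scheme.Modules.pullback (k ≫ h)).obj Ω}
    (hφ : OmegaSh.IsConormalDiff (k ≫ h) d φ)
    {φ₀ : Omega.conormal k ⟶ (Scheme.Modules.pullback k).obj Ω₀} (hφ₀ : OmegaSh.IsConormalDiff k d₀ φ₀) :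
    φ ≫ (Scheme.Modules.pullbackComp k h).inv.app Ω ≫ (Scheme.Modules.pullback k).map c =
      ((Scheme.Modules.pullbackId X).inv.app _ ≫ ψ) ≫ φ₀ := by
  refine Groth.L19.OmegaSh.conormal_hom_ext fun U s => ?_
  obtain ⟨t, ht⟩ := Groth.L19.OmegaSh.exists_conormalMap_val (i := k) hψ.1 U s
  show ((Scheme.Modules.pullback k).map c).app (k ⁻¹ᵁ (h ⁻¹ᵁ U))
    (((Scheme.Modules.pullbackComp k h).inv.app Ω).app (k ⁻¹ᵁ (h ⁻¹ᵁ U))
      (φ.app ((k ≫ h) ⁻¹ᵁ U) (OmegaSh.conormalSect (k ≫ h) U s))) = _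
  rw [hφ U s]
  refine Eq.trans (congrArg (((Scheme.Modules.pullback k).map c).app (k ⁻¹ᵁ (h ⁻¹ᵁ U)))
    (comp_inv_pull k h Ω U _)) ?_
  rw [map_pull]
  refine Eq.trans (congrArg (pull k Ω₀ (h ⁻¹ᵁ U)) (hc U _)) ?_
  rw [← ht]
  refine Eq.trans (hφ₀ (h ⁻¹ᵁ U) t).symm ?_
  show _ = φ₀.app (k ⁻¹ᵁ (h ⁻¹ᵁ U))
    (((Scheme.Modules.pullbackId X).inv.app (Omega.conormal (k ≫ h)) ≫ ψ).app ((k ≫ h) ⁻¹ᵁ U)
      (OmegaSh.conormalSect (k ≫ h) U s))
  rw [Groth.L19.OmegaSh.conormalMap_id_value hψ.1 hψ, Groth.L19.OmegaSh.cVal_eq hψ.1 t ht]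
  exact congrArg _ (rs_self (Omega.conormal k) le_rfl _).symm

theorem shortExact_transport {S : ShortComplex X.Modules} (hS : S.ShortExact) {A B : X.Modules} (e₁ : A ≅ S.X₁)
    (e₃ : S.X₃ ≅ B) (w : (e₁.hom ≫ S.f) ≫ S.g ≫ e₃.hom = 0) :
    (ShortComplex.mk (e₁.hom ≫ S.f) (S.g ≫ e₃.hom) w).ShortExact :=
  ShortComplex.shortExact_of_iso (ShortComplex.isoMk e₁.symm (Iso.refl _) e₃ (by simp) (by simp)) hS

/-- One of the two sequences through the conormal sheaf of the refinement. -/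
theorem exists_half (g : V ⟶ Y) (g' : V' ⟶ Y) [Smooth g'] (p : T ⟶ V) (p' : T ⟶ V') (sq : IsPullback p p' g g')
    {T₀ : Scheme.{u}} (j : T₀ ⟶ T) [IsOpenImmersion j] (k : X ⟶ T₀) [IsImmersion k] [QuasiCompact k]
    [IsImmersion (k ≫ j ≫ p)] [QuasiCompact (k ≫ j ≫ p)]
    {ψ : (Scheme.Modules.pullback (𝟙 X)).obj (Omega.conormal (k ≫ j ≫ p)) ⟶ Omega.conormal k}
    (hψ : OmegaSh.IsConormalMap k (k ≫ j ≫ p) (j ≫ p) (𝟙 X) ψ)
    {ψ' : (Scheme.Modules.pullback (𝟙 X)).obj (Omega.conormal (k ≫ j ≫ p')) ⟶ Omega.conormal k}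
    (hψ' : OmegaSh.IsConormalMap k (k ≫ j ≫ p') (j ≫ p') (𝟙 X) ψ')
    {Ω' : V'.Modules} {d' : OmegaSh.Der g' Ω'} (hd' : OmegaSh.IsUniversal d')
    {φ' : Omega.conormal (k ≫ j ≫ p') ⟶ (Scheme.Modules.pullback (k ≫ j ≫ p')).obj Ω'}
    (hφ' : OmegaSh.IsConormalDiff (k ≫ j ≫ p') d' φ') :
    ∃ (a : Omega.conormal k ⟶ (Scheme.Modules.pullback (k ≫ j ≫ p')).obj Ω')
      (w : ((Scheme.Modules.pullbackId X).inv.app _ ≫ ψ) ≫ a = 0),
      (ShortComplex.mk _ a w).ShortExact ∧ ((Scheme.Modules.pullbackId X).inv.app _ ≫ ψ') ≫ a = φ' := by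
  haveI : Smooth p := MorphismProperty.of_isPullback (P := @Smooth) sq.flip inferInstance
  obtain ⟨Ωp, dp, hdp⟩ := exists_isUniversal p
  obtain ⟨b, hb, -⟩ := Groth.L19.OmegaSh.existsUnique_diffCompat p' g sq.w hd' dp
  haveI : IsIso b := Groth.Agent.S9386.result g' g p' p sq.flip _ _ hd' _ _ hdp b hb
  have hd₀ := Groth.L19.OmegaSh.isUniversal_resDer j hdp
  obtain ⟨cj, hcj, -⟩ := Groth.L19.OmegaSh.existsUnique_diffCompat (f := p) (f' := j ≫ p) j (𝟙 V)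
    (Category.comp_id _) hdp (Groth.L19.OmegaSh.resDer j dp)
  haveI : IsIso cj :=
    Groth.Agent.S9776.result p (j ≫ p) j (𝟙 V) (Category.comp_id _).symm _ _ hdp _ _ hd₀ cj hcj
  have hc := isDiffCompat_comp hb hcj
  set c := (Scheme.Modules.pullbackComp j p').inv.app Ω' ≫ (Scheme.Modules.pullback j).map b ≫ cj
  haveI : IsIso c := inferInstance
  obtain ⟨φ₀, hφ₀⟩ := Groth.L19.OmegaSh.exists_conormalDiff k (Groth.L19.OmegaSh.resDer j dp)
  obtain ⟨w₀, hse⟩ := Groth.Agent.S9711.result (j ≫ p) k (k ≫ j ≫ p) rfl _ _ hd₀ ψ hψ φ₀ hφ₀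
  have hn := conormalDiff_natural (j ≫ p') k hc hψ' hφ' hφ₀
  set θ := (Scheme.Modules.pullbackComp k (j ≫ p')).inv.app Ω' ≫ (Scheme.Modules.pullback k).map c
  have w : ((Scheme.Modules.pullbackId X).inv.app _ ≫ ψ) ≫ φ₀ ≫ inv θ = 0 := by
    rw [Category.assoc, reassoc_of% w₀, zero_comp, comp_zero]
  have e : ((Scheme.Modules.pullbackId X).inv.app _ ≫ ψ') ≫ φ₀ ≫ inv θ = φ' := by
    refine (Category.assoc _ _ _).symm.trans ((congrArg (· ≫ inv θ) hn.symm).trans ?_)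
    exact (Category.assoc _ _ _).trans ((congrArg (φ' ≫ ·) (IsIso.hom_inv_id θ)).trans (Category.comp_id _))
  refine ⟨φ₀ ≫ inv θ, w, ?_, e⟩
  exact shortExact_transport (S := ShortComplex.mk ψ φ₀ w₀) hse ((Scheme.Modules.pullbackId X).app _).symm (asIso θ).symm w

/-- Two factorisations are refined by an open of the fibre product. -/
theorem exists_refinement (g : V ⟶ Y) (g' : V' ⟶ Y) (i : X ⟶ V) [IsImmersion i] (i' : X ⟶ V')
    (h : i ≫ g = i' ≫ g') :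
    ∃ (T₀ : Scheme.{u}) (j : T₀ ⟶ pullback g g') (_ : IsOpenImmersion j) (k : X ⟶ T₀) (_ : IsClosedImmersion k),
      k ≫ j ≫ pullback.fst g g' = i ∧ k ≫ j ≫ pullback.snd g g' = i' := by
  haveI : IsImmersion (pullback.lift i i' h ≫ pullback.fst g g') := by rw [pullback.lift_fst]; infer_instance
  haveI : IsImmersion (pullback.lift i i' h) := IsImmersion.of_comp _ (pullback.fst g g')
  exact ⟨_, (pullback.lift i i' h).coborderRange.ι, inferInstance, (pullback.lift i i' h).liftCoborder, inferInstance,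
    by rw [Scheme.Hom.liftCoborder_ι_assoc, pullback.lift_fst], by rw [Scheme.Hom.liftCoborder_ι_assoc, pullback.lift_snd]⟩

end Groth.L19.CotClass
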